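-- Team project OELP (S5988, helper44), package [NEG1] (helper25):
-- if -1 is a square, an isometry with square -1 has only plus-type invariant nondegenerate
-- subspaces.  Also: a totally isotropic subspace of a nondegenerate subspace has at most half
-- its dimension.
import Mathlib
import Cfsg.Agent.Lib.Helper44.OElp.Defs

set_option autoImplicit false
open scoped MatrixGroups
open Matrix

namespace Cfsg.Agent.Lib.Helper25.OElp

open Cfsg.Agent.Lib.Helper23.OHyp Cfsg.Agent.Lib.Helper44.OElp

universe u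

section ti

variable {F : Type u} [Field F] {ι : Type} [Fintype ι] [DecidableEq ι]

/-- the polar form as a bilinear form -/
noncomputable def polBE (Q : (ι → F) → F)
    (hb : Cfsg.Geo.IsBilinearForm (QuadraticMap.polar Q)) : LinearMap.BilinForm F (ι → F) :=
  LinearMap.mk₂ F (QuadraticMap.polar Q) hb.add_left
    (fun c m n => hb.smul_left c m n) hb.add_right
    (fun c m n => hb.smul_right c m n)

theorem polBE_apply (Q : (ι → F) → F) (hb : Cfsg.Geo.IsBilinearForm (QuadraticMap.polar Q))
    (u v : ι → F) : polBE Q hb u v = QuadraticMap.polar Q u v := rfl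

/-- a totally isotropic subspace of a nondegenerate subspace has at most half the dimension -/
theorem ti_le_half (Q : (ι → F) → F) (hb : Cfsg.Geo.IsBilinearForm (QuadraticMap.polar Q))
    (W U : Submodule F (ι → F)) (hW : Nd Q W) (hUW : U ≤ W)
    (hU : ∀ u ∈ U, ∀ v ∈ U, QuadraticMap.polar Q u v = 0) :
    2 * Module.finrank F U ≤ Module.finrank F W := by
  classical
  set B : LinearMap.BilinForm F W := (polBE Q hb).restrict W with hB
  have hnd : B.Nondegenerate := by
    constructor
    · intro a ha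
      by_contra hne
      have hne' : (a : ι → F) ≠ 0 := fun h => hne (Subtype.ext h)
      obtain ⟨_, ⟨y, hy, hy'⟩⟩ := hW a a.2 hne'
      exact hy' (ha ⟨y, hy⟩)
    · intro a ha
      by_contra hne
      have hne' : (a : ι → F) ≠ 0 := fun h => hne (Subtype.ext h)
      obtain ⟨⟨y, hy, hy'⟩, _⟩ := hW a a.2 hne'
      exact hy' (ha ⟨y, hy⟩)
  set U' : Submodule F W := U.comap W.subtype with hU'
  have hle : U' ≤ B.orthogonal U' := by
    intro a ha
    rw [LinearMap.BilinForm.mem_orthogonal_iff]
    intro b hb'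
    exact hU _ hb' _ ha
  have hfin := LinearMap.BilinForm.finrank_orthogonal hnd U'
  have h1 : Module.finrank F U' = Module.finrank F U :=
    LinearEquiv.finrank_eq (Submodule.comapSubtypeEquivOfLe hUW)
  have h2 := Submodule.finrank_mono hle
  have h3 : Module.finrank F U' ≤ Module.finrank F W := Submodule.finrank_le U'
  omega

end ti

/-- [NEG1] -/
theorem pkgNeg1 : PkgNeg1.{u} := by
  intro F _ ι _ _ Q hQ h2 s hs x hx hxx W hInv hNd
  classical
  have hb := hQ.polar_bilinear
  set X : (ι → F) →ₗ[F] (ι → F) := Matrix.toLin' x with hX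
  have hXX : ∀ v, X (X v) = -v := by
    intro v
    rw [hX, Matrix.toLin'_apply, Matrix.toLin'_apply, Matrix.mulVec_mulVec, hxx,
      Matrix.neg_mulVec, Matrix.one_mulVec]
  have hXW : ∀ w ∈ W, X w ∈ W := fun w hw => hInv (Submodule.mem_map_of_mem hw)
  have hQX : ∀ v, Q (X v) = Q v := by
    intro v
    rw [hX, Matrix.toLin'_apply]
    exact hx v
  have heig : ∀ (t : F), t * t = -1 → ∀ v, X v = t • v → Q v = 0 := by
    intro t ht v hv
    have h1 : Q v = t ^ 2 * Q v := by
      rw [← hQ.smul t v, ← hv, hQX]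
    have h3 : (2 : F) * Q v = 0 := by
      have ht2 : t ^ 2 = -1 := by rw [pow_two]; exact ht
      rw [ht2] at h1
      linear_combination h1
    exact (mul_eq_zero.mp h3).resolve_left h2
  set Wp : Submodule F (ι → F) := W ⊓ LinearMap.ker (X - s • LinearMap.id) with hWp
  set Wm : Submodule F (ι → F) := W ⊓ LinearMap.ker (X + s • LinearMap.id) with hWm
  have hmemp : ∀ v, v ∈ Wp ↔ v ∈ W ∧ X v = s • v := by
    intro v
    rw [hWp, Submodule.mem_inf, LinearMap.mem_ker]
    simp [sub_eq_zero]
  have hmemm : ∀ v, v ∈ Wm ↔ v ∈ W ∧ X v = (-s) • v := by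
    intro v
    rw [hWm, Submodule.mem_inf, LinearMap.mem_ker]
    simp [add_eq_zero_iff_eq_neg]
  have hQp : ∀ v ∈ Wp, Q v = 0 := fun v hv => heig s hs v ((hmemp v).1 hv).2
  have hQm : ∀ v ∈ Wm, Q v = 0 := fun v hv =>
    heig (-s) (by rw [neg_mul_neg]; exact hs) v ((hmemm v).1 hv).2
  have hBp : ∀ u ∈ Wp, ∀ v ∈ Wp, QuadraticMap.polar Q u v = 0 := by
    intro u hu v hv
    unfold QuadraticMap.polar
    rw [hQp _ (Wp.add_mem hu hv), hQp u hu, hQp v hv]
    ring
  have hBm : ∀ u ∈ Wm, ∀ v ∈ Wm, QuadraticMap.polar Q u v = 0 := by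
    intro u hu v hv
    unfold QuadraticMap.polar
    rw [hQm _ (Wm.add_mem hu hv), hQm u hu, hQm v hv]
    ring
  have hp := ti_le_half Q hb W Wp hNd inf_le_left hBp
  have hm := ti_le_half Q hb W Wm hNd inf_le_left hBm
  have hsup : W ≤ Wp ⊔ Wm := by
    intro w hw
    have h2' : (2 : F)⁻¹ * 2 = 1 := inv_mul_cancel₀ h2
    have e : w = (2 : F)⁻¹ • (w - s • X w) + (2 : F)⁻¹ • (w + s • X w) := by
      rw [← smul_add]
      have e2 : (w - s • X w) + (w + s • X w) = (2 : F) • w := by
        rw [two_smul]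
        abel
      rw [e2, smul_smul, h2', one_smul]
    rw [e]
    refine Submodule.add_mem_sup (Wp.smul_mem _ ?_) (Wm.smul_mem _ ?_)
    · rw [hmemp]
      refine ⟨W.sub_mem hw (W.smul_mem _ (hXW w hw)), ?_⟩
      rw [map_sub, map_smul, hXX, smul_sub, smul_smul, hs, smul_neg, sub_neg_eq_add, neg_smul,
        one_smul, sub_neg_eq_add, add_comm]
    · rw [hmemm]
      refine ⟨W.add_mem hw (W.smul_mem _ (hXW w hw)), ?_⟩
      rw [map_add, map_smul, hXX, smul_add, smul_smul, neg_mul, hs, smul_neg, neg_neg, one_smul,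
        neg_smul, add_comm]
  have hfin : Module.finrank F W ≤ Module.finrank F Wp + Module.finrank F Wm :=
    le_trans (Submodule.finrank_mono hsup) (Submodule.finrank_add_le_finrank_add_finrank Wp Wm)
  show Cfsg.Geo.IsPlusTypeOn Q W
  refine ⟨Wp, inf_le_left, hQp, ?_⟩
  omega

end Cfsg.Agent.Lib.Helper25.OElp
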