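-- Team project OELP (S5988, helper44), package [NEG3] (helper25):
-- if -1 is not a square, then for an isometry with square -1 the type of an invariant
-- nondegenerate subspace is given by its dimension mod 4, and there are invariant nondegenerate
-- subspaces of every even dimension.
import Mathlib
import Cfsg.Agent.Lib.Helper44.OElp.Defs
import Cfsg.Agent.Lib.Helper87.OHyp.Perp
import Cfsg.Agent.Lib.Helper1.OHyp.Sum

set_option autoImplicit false
open scoped MatrixGroups
open Matrix

namespace Cfsg.Agent.Lib.Helper25.OElp

open Cfsg.Agent.Lib.Helper23.OHyp Cfsg.Agent.Lib.Helper44.OElp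

universe u

/-- [NEG3] -/
theorem pkgNeg3 : PkgNeg3.{u} := by
  intro F _ _ ι _ _ Q hQ h2 hsq x hx hxx
  classical
  have hb := hQ.polar_bilinear
  set X : (ι → F) →ₗ[F] (ι → F) := Matrix.toLin' x with hX
  have hXX : ∀ v, X (X v) = -v := by
    intro v
    rw [hX, Matrix.toLin'_apply, Matrix.toLin'_apply, Matrix.mulVec_mulVec, hxx,
      Matrix.neg_mulVec, Matrix.one_mulVec]
  have hQX : ∀ v, Q (X v) = Q v := by
    intro v
    rw [hX, Matrix.toLin'_apply]
    exact hx v
  have Q0 : Q 0 = 0 := by
    have := hQ.smul 0 0
    simpa using this
  have hdet : IsUnit x.det := by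
    have h1 : x * (-x) = 1 := by rw [mul_neg, hxx, neg_neg]
    exact (Matrix.isUnit_iff_isUnit_det x).mp (IsUnit.of_mul_eq_one _ h1)
  have hpolX : ∀ a b, QuadraticMap.polar Q (X a) (X b) = QuadraticMap.polar Q a b := by
    intro a b
    unfold QuadraticMap.polar
    rw [← map_add, hQX, hQX, hQX]
  have hpolself : ∀ w, QuadraticMap.polar Q w w = 2 * Q w := by
    intro w
    unfold QuadraticMap.polar
    have h1 := hQ.smul 2 w
    rw [two_smul] at h1
    rw [h1]
    ring
  have hab0 : ∀ a b : F, a ^ 2 + b ^ 2 = 0 → a = 0 ∧ b = 0 := by
    intro a b hab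
    have hb0 : b = 0 := by
      by_contra hbne
      apply hsq
      have h1 : a / b * (a / b) = -1 := by
        field_simp
        linear_combination hab
      exact ⟨a / b, h1.symm⟩
    subst hb0
    refine ⟨?_, rfl⟩
    simpa using hab
  have key : ∀ n : ℕ, ∀ W : Submodule F (ι → F), Module.finrank F W = n → Inv x W → Nd Q W →
      Even n ∧ (Plus Q W ↔ 4 ∣ n) ∧ ∀ m : ℕ, Even m → m ≤ n →
        ∃ W' : Submodule F (ι → F), W' ≤ W ∧ Inv x W' ∧ Nd Q W' ∧ Module.finrank F W' = m := by
    intro n
    induction n using Nat.strong_induction_on with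
    | _ n ih =>
      intro W hn hInv hNd
      by_cases hW : W = ⊥
      · subst hW
        have hn0 : n = 0 := by
          rw [← hn]
          exact finrank_bot F (ι → F)
        subst hn0
        refine ⟨⟨0, rfl⟩, ⟨fun _ => dvd_zero 4, fun _ => ?_⟩, ?_⟩
        · show Cfsg.Geo.IsPlusTypeOn Q ⊥
          refine ⟨⊥, le_refl _, ?_, ?_⟩
          · intro w hw
            rw [(Submodule.mem_bot F).mp hw]
            exact Q0
          · simp
        · intro m hm hm0
          have hm' : m = 0 := by omega
          subst hm'
          exact ⟨⊥, le_refl _, hInv, hNd, finrank_bot F _⟩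
      · obtain ⟨v, hvW, hQv⟩ : ∃ v ∈ W, Q v ≠ 0 := by
          by_contra hcon
          push Not at hcon
          obtain ⟨w, hw, hw0⟩ := (Submodule.ne_bot_iff W).mp hW
          obtain ⟨⟨y, hy, hy'⟩, _⟩ := hNd w hw hw0
          apply hy'
          unfold QuadraticMap.polar
          rw [hcon _ (W.add_mem hy hw), hcon y hy, hcon w hw]
          ring
        have hXW : ∀ w ∈ W, X w ∈ W := fun w hw => hInv (Submodule.mem_map_of_mem hw)
        have hBv : QuadraticMap.polar Q v (X v) = 0 := by
          have h1 : QuadraticMap.polar Q v (X v) = - QuadraticMap.polar Q v (X v) := by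
            conv_lhs => rw [← hpolX v (X v), hXX]
            have h3 := hb.smul_right (-1) (X v) v
            rw [neg_one_smul] at h3
            rw [h3, QuadraticMap.polar_comm]
            ring
          have h3 : (2 : F) * QuadraticMap.polar Q v (X v) = 0 := by linear_combination h1
          exact (mul_eq_zero.mp h3).resolve_left h2
        have hQab : ∀ a b : F, Q (a • v + b • X v) = (a ^ 2 + b ^ 2) * Q v := by
          intro a b
          have h1 : Q (a • v + b • X v) =
              Q (a • v) + Q (b • X v) + QuadraticMap.polar Q (a • v) (b • X v) := by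
            unfold QuadraticMap.polar
            ring
          rw [h1, hQ.smul, hQ.smul, hQX, hb.smul_left, hb.smul_right, hBv]
          ring
        set P : Submodule F (ι → F) := Submodule.span F {v, X v} with hP
        have hmemP : ∀ w, w ∈ P ↔ ∃ a b : F, a • v + b • X v = w :=
          fun w => Submodule.mem_span_pair
        have hPW : P ≤ W := by
          rw [hP, Submodule.span_le]
          intro w hw
          simp only [Set.mem_insert_iff, Set.mem_singleton_iff] at hw
          rcases hw with rfl | rfl
          · exact hvW
          · exact hXW v hvW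
        have hInvP : Inv x P := by
          intro w hw
          obtain ⟨p, hp, rfl⟩ := hw
          obtain ⟨a, b, rfl⟩ := (hmemP p).1 hp
          show X (a • v + b • X v) ∈ P
          rw [map_add, map_smul, map_smul, hXX, hmemP]
          exact ⟨-b, a, by rw [smul_neg, neg_smul]; abel⟩
        have haniso : ∀ w ∈ P, Q w = 0 → w = 0 := by
          intro w hw hQw
          obtain ⟨a, b, rfl⟩ := (hmemP w).1 hw
          rw [hQab] at hQw
          have h1 := hab0 a b ((mul_eq_zero.mp hQw).resolve_right hQv)
          rw [h1.1, h1.2]
          simp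
        have hNdP : Nd Q P := by
          intro w hw hw0
          have h1 : QuadraticMap.polar Q w w ≠ 0 := by
            rw [hpolself]
            exact mul_ne_zero h2 (fun h => hw0 (haniso w hw h))
          exact ⟨⟨w, hw, h1⟩, ⟨w, hw, h1⟩⟩
        have hli : LinearIndependent F ![v, X v] := by
          rw [LinearIndependent.pair_iff]
          intro a b hab
          have h0 : Q (a • v + b • X v) = 0 := by
            rw [hab]
            exact Q0
          rw [hQab] at h0
          exact hab0 a b ((mul_eq_zero.mp h0).resolve_right hQv)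
        have hfinP : Module.finrank F P = 2 := by
          have h := finrank_span_eq_card hli
          rw [Matrix.range_cons_cons_empty] at h
          simpa using h
        have hnotP : ¬ Plus Q P := by
          rintro ⟨U, hUP, hUs, hUd⟩
          have hU1 : Module.finrank F U = 1 := by omega
          have hUne : U ≠ ⊥ := by
            rintro rfl
            simp at hU1
          obtain ⟨u, hu, hu0⟩ := (Submodule.ne_bot_iff U).mp hUne
          exact hu0 (haniso u (hUP hu) (hUs u hu))
        obtain ⟨W', hW'W, hInvW', hNdW', hperp, hsup, hdim⟩ :=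
          Cfsg.Agent.Lib.Helper87.OHyp.pkgPerp F ι Q hQ x hx hdet W P hPW hInv hInvP hNd hNdP
        have hn' : Module.finrank F W' = n - 2 := by omega
        have hn2 : 2 ≤ n := by omega
        obtain ⟨hev, hplus, hsub⟩ := ih (n - 2) (by omega) W' hn' hInvW' hNdW'
        obtain ⟨-, -, hsum⟩ :=
          Cfsg.Agent.Lib.Helper1.OHyp.pkgSum F ι Q hQ h2 P W' hNdP hNdW' hperp
        have hsum' := hsum (by rw [hfinP]; exact even_two) (by rw [hn']; exact hev)
        rw [hsup] at hsum'
        have hevn : Even n := by
          obtain ⟨k, hk⟩ := hev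
          exact ⟨k + 1, by omega⟩
        refine ⟨hevn, ?_, ?_⟩
        · rw [hsum']
          constructor
          · intro h
            have h1 : ¬ Plus Q W' := fun hp => hnotP (h.mpr hp)
            have h3 : ¬ 4 ∣ n - 2 := fun hd => h1 (hplus.mpr hd)
            obtain ⟨k, hk⟩ := hevn
            omega
          · intro h4
            have h1 : ¬ Plus Q W' := by
              intro hp
              have h3 := hplus.mp hp
              omega
            exact ⟨fun hp => absurd hp hnotP, fun hp => absurd hp h1⟩
        · intro m hm hmn
          by_cases hm2 : m ≤ n - 2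
          · obtain ⟨W'', h1, h3, h4, h5⟩ := hsub m hm hm2
            exact ⟨W'', le_trans h1 hW'W, h3, h4, h5⟩
          · have hmn' : m = n := by
              obtain ⟨k, hk⟩ := hevn
              obtain ⟨l, hl⟩ := hm
              omega
            exact ⟨W, le_refl _, hInv, hNd, by rw [hn, hmn']⟩
  intro W hInv hNd
  obtain ⟨-, h1, h3⟩ := key _ W rfl hInv hNd
  exact ⟨h1, h3⟩

end Cfsg.Agent.Lib.Helper25.OElp
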